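import Groth.Agent.SGA3cLib.DSChar
import Groth.Agent.SGA3cLib.BCPoints

/-! The diagonalisable group `Spec R[M]` over an affine base is `D_S(M)`. -/

set_option linter.style.haveILetI false
set_option autoImplicit false
set_option backward.isDefEq.respectTransparency.types false

universe u

open CategoryTheory CategoryTheory.Limits MonoidalCategory CartesianMonoidalCategory MonObj AlgebraicGeometry

noncomputable section

namespace Groth.Agent.MuExt

open SGA3cLib

variable {R : Type u} [CommRing R] {M : Type} [AddCommGroup M]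

/-- The algebra structure of the global functions of an `R`-scheme. -/
@[reducible] def alg (X : Over (Spec (CommRingCat.of R))) : Algebra R Γ(X.left, ⊤) :=
  (theta X.hom).toAlgebra

/-- The point attached to an algebra map. -/
def mkPt {X : Over (Spec (CommRingCat.of R))}
    (φ : letI := alg X; MonoidAlgebra R (Multiplicative M) →ₐ[R] Γ(X.left, ⊤)) : X ⟶ Red.diag R M :=
  letI := alg X
  (Over.homMk X.left.toSpecΓ (toSpecΓ_SpecMap_theta X.hom) :
      X ⟶ (Spec (CommRingCat.of Γ(X.left, ⊤))).asOver (Spec (CommRingCat.of R))) ≫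
    Spec.mapMulEquiv (WithConv.toConv φ)

/-- The functions attached to a point. -/
def ev {X : Over (Spec (CommRingCat.of R))} (x : X ⟶ Red.diag R M) : Multiplicative M →* Γ(X.left, ⊤) :=
  (((Scheme.ΓSpecIso (CommRingCat.of (MonoidAlgebra R (Multiplicative M)))).inv ≫ x.left.appTop).hom).toMonoidHom.comp
    (MonoidAlgebra.of R (Multiplicative M))

theorem ev_comp {X X' : Over (Spec (CommRingCat.of R))} (f : X' ⟶ X) (x : X ⟶ Red.diag R M) (m : Multiplicative M) :
    ev (f ≫ x) m = f.left.appTop (ev x m) := rfl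

theorem mkPt_surjective {X : Over (Spec (CommRingCat.of R))} (x : X ⟶ Red.diag R M) :
    ∃ φ, mkPt φ = x := by
  letI := alg X
  let A := CommRingCat.of (MonoidAlgebra R (Multiplicative M))
  let L : A ⟶ Γ(X.left, ⊤) := (Scheme.ΓSpecIso A).inv ≫ x.left.appTop
  have hx : X.left.toSpecΓ ≫ Spec.map L = x.left := toSpecΓ_SpecMap_theta (R := A) x.left
  have hL : ∀ r : R, L (algebraMap R (MonoidAlgebra R (Multiplicative M)) r) = theta X.hom r := by
    intro r
    have h1 : Spec.map (CommRingCat.ofHom (algebraMap R (MonoidAlgebra R (Multiplicative M)))) =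
        (Red.diag R M).hom := rfl
    have h2 := theta_SpecMap (R := CommRingCat.of R)
      (CommRingCat.ofHom (algebraMap R (MonoidAlgebra R (Multiplicative M)))) r
    show x.left.appTop ((Scheme.ΓSpecIso A).inv _) = _
    have h3 : x.left.appTop (theta (R := CommRingCat.of R) (Red.diag R M).hom r) = theta X.hom r := by
      show (x.left ≫ (Red.diag R M).hom).appTop _ = _
      rw [Over.w x]
      rfl
    rw [← h3]
    exact congrArg _ h2.symm
  refine ⟨{ L.hom with commutes' := hL }, Over.OverMorphism.ext ?_⟩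
  exact hx

theorem ev_mkPt {X : Over (Spec (CommRingCat.of R))}
    (φ : letI := alg X; MonoidAlgebra R (Multiplicative M) →ₐ[R] Γ(X.left, ⊤)) (m : Multiplicative M) :
    ev (mkPt φ) m = φ (MonoidAlgebra.of R (Multiplicative M) m) :=
  letI := alg X
  appTop_toSpecΓ_SpecMap (A := CommRingCat.of (MonoidAlgebra R (Multiplicative M)))
    (CommRingCat.ofHom φ.toRingHom) (MonoidAlgebra.of R (Multiplicative M) m)

theorem ev_injective {X : Over (Spec (CommRingCat.of R))} {x y : X ⟶ Red.diag R M} (h : ev x = ev y) :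
    x = y := by
  letI := alg X
  obtain ⟨φ, rfl⟩ := mkPt_surjective x
  obtain ⟨ψ, rfl⟩ := mkPt_surjective y
  congr 1
  refine MonoidAlgebra.algHom_ext (single_one_left := Subsingleton.elim _ _) fun m => ?_
  have := DFunLike.congr_fun h m
  rwa [ev_mkPt, ev_mkPt] at this

theorem exists_ev {X : Over (Spec (CommRingCat.of R))} (f : Multiplicative M →* Γ(X.left, ⊤)) :
    ∃ x : X ⟶ Red.diag R M, ev x = f := by
  letI := alg X
  exact ⟨mkPt (MonoidAlgebra.lift R Γ(X.left, ⊤) (Multiplicative M) f), MonoidHom.ext fun m => by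
    rw [ev_mkPt]; exact MonoidAlgebra.lift_of f m⟩

theorem ev_mul {X : Over (Spec (CommRingCat.of R))} (x y : X ⟶ Red.diag R M) (m : Multiplicative M) :
    ev (x * y) m = ev x m * ev y m := by
  letI := alg X
  obtain ⟨φ, rfl⟩ := mkPt_surjective x
  obtain ⟨ψ, rfl⟩ := mkPt_surjective y
  have h : mkPt φ * mkPt ψ = mkPt (WithConv.toConv φ * WithConv.toConv ψ).ofConv := by
    unfold mkPt
    rw [← MonObj.comp_mul, ← map_mul]
  rw [h, ev_mkPt, ev_mkPt, ev_mkPt, AlgHom.convMul_apply]
  simp [MonoidAlgebra.comul_single]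

theorem exists_iso_DS (R : Type u) [CommRing R] (M : Type) [AddCommGroup M] :
    ∃ e : Red.diag R M ≅ Red.DS (Spec (CommRingCat.of R)) M, IsMonHom e.hom := by
  obtain ⟨p, hp⟩ := exists_dsPt (W := Red.diag R M) (ev (𝟙 (Red.diag R M)))
  obtain ⟨p', hp'⟩ := exists_ev (X := Red.DS (Spec (CommRingCat.of R)) M) (dsFn (𝟙 _))
  have h1 : ∀ {X : Over (Spec (CommRingCat.of R))} (x : X ⟶ Red.diag R M) (m : Multiplicative M),
      dsFn (x ≫ p) m = ev x m := fun x m => by
    rw [dsFn_comp, hp, ← ev_comp, Category.comp_id]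
  have h2 : ∀ {X : Over (Spec (CommRingCat.of R))} (x : X ⟶ Red.DS (Spec (CommRingCat.of R)) M) (m : Multiplicative M),
      ev (x ≫ p') m = dsFn x m := fun x m => by
    rw [ev_comp, hp', ← dsFn_comp, Category.comp_id]
  refine ⟨⟨p, p', ev_injective (MonoidHom.ext fun m => ?_), dsFn_injective (MonoidHom.ext fun m => ?_)⟩,
    BCPoints.isMonHom_of_mul p fun X x y => dsFn_injective (MonoidHom.ext fun m => ?_)⟩
  · rw [h2, hp]
  · rw [h1, hp']
  · rw [h1, ev_mul, dsFn_mul, h1, h1]

end Groth.Agent.MuExt
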