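import Groth.Agent.MuExt.DiagIso
import Groth.Agent.Cochar26.FibreChar
import Groth.Agent.SGA3cLib.CentralDescent
import Groth.Agent.SGA3cLib.CentralEqBasic
import Groth.Agent.SGA3cLib.TrivLocus
import Mathlib.RingTheory.IntegralDomain
import Mathlib.FieldTheory.Perfect

/-! Alternating pairings on `μ_n` over a local base are trivial. -/

set_option linter.style.haveILetI false
set_option autoImplicit false
set_option backward.isDefEq.respectTransparency.types false

universe u

open CategoryTheory CategoryTheory.Limits MonoidalCategory CartesianMonoidalCategory MonObj AlgebraicGeometry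

noncomputable section

namespace Groth.Agent.MuExt

open SGA3cLib

variable {S : Scheme.{u}} {n : ℕ}

/-- The value at the generator. -/
def gen {X : Over S} (x : X ⟶ Red.DS S (ZMod n)) : Γ(X.left, ⊤) := dsFn x (Multiplicative.ofAdd 1)

theorem gen_comp {X X' : Over S} (f : X' ⟶ X) (x : X ⟶ Red.DS S (ZMod n)) :
    gen (f ≫ x) = f.left.appTop (gen x) := rfl

theorem gen_injective {X : Over S} {x y : X ⟶ Red.DS S (ZMod n)} (h : gen x = gen y) : x = y := by
  refine dsFn_injective (MonoidHom.ext fun m => ?_)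
  obtain ⟨a, rfl⟩ : ∃ a, Multiplicative.ofAdd a = m := ⟨m.toAdd, rfl⟩
  obtain ⟨j, rfl⟩ := ZMod.intCast_surjective a
  have e : Multiplicative.ofAdd (j : ZMod n) = Multiplicative.ofAdd (1 : ZMod n) ^ j := by
    rw [← ofAdd_zsmul, zsmul_one]
  let u : (Γ(X.left, ⊤))ˣ := Units.map (dsFn x) (toUnits (Multiplicative.ofAdd (1 : ZMod n)))
  let v : (Γ(X.left, ⊤))ˣ := Units.map (dsFn y) (toUnits (Multiplicative.ofAdd (1 : ZMod n)))
  have huv : u = v := Units.ext h
  have hu : (Units.map (dsFn x) (toUnits (Multiplicative.ofAdd (j : ZMod n))) : (Γ(X.left, ⊤))ˣ) = u ^ j := by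
    rw [e, map_zpow, map_zpow]
  have hv : (Units.map (dsFn y) (toUnits (Multiplicative.ofAdd (j : ZMod n))) : (Γ(X.left, ⊤))ˣ) = v ^ j := by
    rw [e, map_zpow, map_zpow]
  exact congrArg Units.val ((hu.trans (huv ▸ rfl)).trans hv.symm)

theorem gen_one {X : Over S} : gen (1 : X ⟶ Red.DS S (ZMod n)) = 1 := dsFn_one _

theorem gen_mul {X : Over S} (x y : X ⟶ Red.DS S (ZMod n)) : gen (x * y) = gen x * gen y := dsFn_mul _ _ _

/-- `gen` as a monoid homomorphism. -/
def genHom (X : Over S) : (X ⟶ Red.DS S (ZMod n)) →* Γ(X.left, ⊤) where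
  toFun := gen
  map_one' := gen_one
  map_mul' := gen_mul

theorem gen_pow {X : Over S} (x : X ⟶ Red.DS S (ZMod n)) (j : ℕ) : gen (x ^ j) = gen x ^ j :=
  map_pow (genHom X) x j

theorem pow_n_eq_one {X : Over S} (x : X ⟶ Red.DS S (ZMod n)) : x ^ n = 1 := by
  refine gen_injective ?_
  rw [gen_pow, gen_one, gen, ← map_pow, ← ofAdd_nsmul]
  simp

theorem exists_gen {X : Over S} (w : Γ(X.left, ⊤)) (hn : 0 < n) (hw : w ^ n = 1) :
    ∃ x : X ⟶ Red.DS S (ZMod n), gen x = w := by
  let wu : (Γ(X.left, ⊤))ˣ := (IsUnit.of_pow_eq_one hw hn.ne').unit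
  have hwu : wu ^ n = 1 := Units.ext (by simpa [wu] using hw)
  let f : ZMod n →+ Additive (Γ(X.left, ⊤))ˣ := ZMod.lift n ⟨zmultiplesHom _ (Additive.ofMul wu), by
    rw [zmultiplesHom_apply, natCast_zsmul, ← ofMul_pow, hwu, ofMul_one]⟩
  obtain ⟨x, hx⟩ := exists_dsPt (W := X) (U := S) ((Units.coeHom _).comp (AddMonoidHom.toMultiplicativeLeft f))
  refine ⟨x, ?_⟩
  rw [gen, hx]
  have h1 : f 1 = Additive.ofMul wu := by
    have : f ((1 : ℤ) : ZMod n) = Additive.ofMul wu := by
      simp only [f, ZMod.lift_coe, zmultiplesHom_apply, one_zsmul]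
    simpa using this
  show ((Additive.toMul (f 1) : (Γ(X.left, ⊤))ˣ) : Γ(X.left, ⊤)) = w
  rw [h1]
  rfl

section field

variable {G : Over S} [GrpObj G] (c : Red.DS S (ZMod n) ⊗ Red.DS S (ZMod n) ⟶ G)

/-- A pairing is bilinear and alternating. -/
structure IsAlt : Prop where
  mul_right : ∀ (X : Over S) (a b b' : X ⟶ Red.DS S (ZMod n)),
    lift a (b * b') ≫ c = (lift a b ≫ c) * (lift a b' ≫ c)
  symm : ∀ (X : Over S) (a b : X ⟶ Red.DS S (ZMod n)), lift b a ≫ c = (lift a b ≫ c)⁻¹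
  diag : ∀ (X : Over S) (a : X ⟶ Red.DS S (ZMod n)), lift a a ≫ c = 1

variable {c} (hc : IsAlt c)
include hc

/-- The homomorphism in the second variable. -/
def rightHom {X : Over S} (a : X ⟶ Red.DS S (ZMod n)) : (X ⟶ Red.DS S (ZMod n)) →* (X ⟶ G) :=
  MonoidHom.mk' (fun b => lift a b ≫ c) (hc.mul_right X a)

theorem one_left {X : Over S} (b : X ⟶ Red.DS S (ZMod n)) : lift 1 b ≫ c = 1 := by
  rw [hc.symm X b 1, show lift b (1 : X ⟶ Red.DS S (ZMod n)) ≫ c = 1 from map_one (rightHom hc b), inv_one]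

theorem pow_left {X : Over S} (a b : X ⟶ Red.DS S (ZMod n)) (j : ℕ) :
    lift (a ^ j) b ≫ c = (lift a b ≫ c) ^ j := by
  rw [hc.symm X b (a ^ j), show lift b (a ^ j) ≫ c = (lift b a ≫ c) ^ j from map_pow (rightHom hc b) a j,
    hc.symm X a b, inv_pow, inv_inv]

/-- The pairing of two points with values in an algebraically closed field. -/
theorem field_point (hn : 0 < n) {Ω : Type u} [Field Ω] (w : Spec (CommRingCat.of Ω) ⟶ S)
    (a b : Over.mk w ⟶ Red.DS S (ZMod n)) : lift a b ≫ c = 1 := by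
  let e : Γ((Over.mk w).left, ⊤) ≃+* Ω := (Scheme.ΓSpecIso (CommRingCat.of Ω)).commRingCatIsoToRingEquiv
  let φ : (Over.mk w ⟶ Red.DS S (ZMod n)) →* Ω := e.toMonoidHom.comp (genHom _)
  have hφ : Function.Injective φ := fun x y h => gen_injective (e.injective h)
  haveI : NeZero n := ⟨hn.ne'⟩
  let ψ : (Over.mk w ⟶ Red.DS S (ZMod n)) →* rootsOfUnity n Ω :=
    MonoidHom.mk' (fun x => ⟨φ.toHomUnits x, by
      rw [mem_rootsOfUnity, ← map_pow, pow_n_eq_one, map_one]⟩) fun x y => Subtype.ext (map_mul _ x y)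
  haveI : IsCyclic (Over.mk w ⟶ Red.DS S (ZMod n)) := isCyclic_of_injective ψ fun x y h => hφ
    (congrArg (fun t : rootsOfUnity n Ω => ((t : Ωˣ) : Ω)) h)
  haveI : Finite (Over.mk w ⟶ Red.DS S (ZMod n)) := Finite.of_injective ψ fun x y h => hφ (congrArg (fun t : rootsOfUnity n Ω => ((t : Ωˣ) : Ω)) h)
  obtain ⟨g, hg⟩ := IsCyclic.exists_monoid_generator (α := (Over.mk w ⟶ Red.DS S (ZMod n)))
  obtain ⟨i, rfl⟩ := Submonoid.mem_powers_iff _ _ |>.1 (hg a)
  obtain ⟨j, rfl⟩ := Submonoid.mem_powers_iff _ _ |>.1 (hg b)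
  rw [pow_left hc, show lift g (g ^ j) ≫ c = (lift g g ≫ c) ^ j from map_pow (rightHom hc g) g j, hc.diag, one_pow, one_pow]

/-- Over an algebraically closed field the pairing is trivial in the second variable. -/
theorem field_trivial (hn : 0 < n) {Ω : Type u} [Field Ω] [IsAlgClosed Ω] (w : Spec (CommRingCat.of Ω) ⟶ S)
    (a : Over.mk w ⟶ Red.DS S (ZMod n)) {X : Over S} (r : X ⟶ Over.mk w) (b : X ⟶ Red.DS S (ZMod n)) :
    lift (r ≫ a) b ≫ c = 1 := by
  classical
  obtain ⟨p, hexp⟩ := ExpChar.exists Ω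
  obtain ⟨k, m, hm, hnm⟩ : ∃ (k m : ℕ), (m : Ω) ≠ 0 ∧ n = p ^ k * m := by
    rcases hexp with _ | ⟨hprime⟩
    · exact ⟨0, n, Nat.cast_ne_zero.2 hn.ne', by simp⟩
    · obtain ⟨k, m, hm, hnm⟩ := Nat.exists_eq_pow_mul_and_not_dvd hn.ne' p hprime.ne_one
      exact ⟨k, m, fun h => hm ((CharP.cast_eq_zero_iff Ω p m).1 h), hnm⟩
  have hm0 : 0 < m := Nat.pos_of_ne_zero fun h => hm (by simp [h])
  have hgcd : Nat.gcd (p ^ k) m = 1 := by
    rcases hexp with _ | ⟨hprime⟩
    · simp
    · exact Nat.Coprime.pow_left _ (hprime.coprime_iff_not_dvd.2 fun h => hm ((CharP.cast_eq_zero_iff Ω p m).2 h))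
  let e : Γ((Over.mk w).left, ⊤) ≃+* Ω := (Scheme.ΓSpecIso (CommRingCat.of Ω)).commRingCatIsoToRingEquiv
  -- the field-valued point is killed by `m`
  have ha : a ^ m = 1 := by
    refine gen_injective (e.injective ?_)
    rw [gen_one, map_one]
    have h1 : (e (gen (a ^ m))) ^ (p ^ k) = 1 := by
      rw [← map_pow, ← gen_pow, ← pow_mul, show m * p ^ k = n by rw [hnm, mul_comm], pow_n_eq_one, gen_one, map_one]
    refine iterateFrobenius_inj Ω p k ?_
    rw [iterateFrobenius_def, iterateFrobenius_def, h1, one_pow]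
  set v := lift (r ≫ a) b ≫ c with hv
  have hvm : v ^ m = 1 := by
    have hra : (r ≫ a) ^ m = r ≫ a ^ m :=
      (map_pow (MonoidHom.mk' (fun t : Over.mk w ⟶ Red.DS S (ZMod n) => r ≫ t) fun s t => MonObj.comp_mul r s t) a m).symm
    rw [hv, ← pow_left hc, hra]
    show lift (r ≫ a ^ m) b ≫ c = 1
    rw [ha, MonObj.comp_one, one_left hc]
  have hvp : v ^ (p ^ k) = 1 := by
    rw [hv, show (lift (r ≫ a) b ≫ c) ^ (p ^ k) = lift (r ≫ a) (b ^ (p ^ k)) ≫ c from
      (map_pow (rightHom hc (r ≫ a)) b _).symm]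
    set y := b ^ (p ^ k) with hy
    have hym : gen y ^ m = 1 := by
      rw [hy, gen_pow, ← pow_mul, ← hnm, ← gen_pow, pow_n_eq_one, gen_one]
    -- locally `y` is a field-valued point
    let φ : Ω →+* Γ(X.left, ⊤) := r.left.appTop.hom.comp e.symm.toRingHom
    obtain ⟨ζ, hζ⟩ : ∃ ζ : Ω, IsPrimitiveRoot ζ m := by
      haveI : NeZero (m : Ω) := ⟨hm⟩
      exact HasEnoughRootsOfUnity.exists_primitiveRoot Ω m
    have hprod : ∏ z ∈ Polynomial.nthRootsFinset m (1 : Ω), (gen y - φ z) = 0 := by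
      have h := congrArg (Polynomial.eval₂ φ (gen y)) (Polynomial.X_pow_sub_one_eq_prod hm0 hζ)
      rw [Polynomial.eval₂_finsetProd] at h
      simpa [hym] using h.symm
    apply Over.OverMorphism.ext
    refine Scheme.hom_ext_of_forall _ _ fun x => ?_
    have hg : ∏ z ∈ Polynomial.nthRootsFinset m (1 : Ω),
        X.left.presheaf.germ ⊤ x trivial (gen y - φ z) = 0 := by
      rw [← map_prod, hprod, map_zero]
    obtain ⟨z, hz, hnu⟩ : ∃ z ∈ Polynomial.nthRootsFinset m (1 : Ω),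
        ¬ IsUnit (X.left.presheaf.germ ⊤ x trivial (gen y - φ z)) := by
      by_contra! h
      exact not_isUnit_zero (hg ▸ IsUnit.prod_iff.2 h)
    have hz0 : X.left.presheaf.germ ⊤ x trivial (gen y - φ z) = 0 := by
      rw [← Finset.mul_prod_erase _ _ hz] at hg
      refine (IsUnit.mul_left_eq_zero (IsUnit.prod_iff.2 fun z' hz' => ?_)).1 hg
      by_contra hnu'
      have hsub : ¬ IsUnit (X.left.presheaf.germ ⊤ x trivial (φ (z - z'))) := by
        rw [map_sub, show φ z - φ z' = (gen y - φ z') - (gen y - φ z) by ring, map_sub]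
        exact (IsLocalRing.mem_maximalIdeal (R := ↑(X.left.presheaf.stalk x)) _).1 (Ideal.sub_mem _ ((IsLocalRing.mem_maximalIdeal (R := ↑(X.left.presheaf.stalk x)) _).2 hnu') ((IsLocalRing.mem_maximalIdeal (R := ↑(X.left.presheaf.stalk x)) _).2 hnu))
      exact hsub (((isUnit_iff_ne_zero.2 (sub_ne_zero.2 (Finset.ne_of_mem_erase hz').symm)).map φ).map _)
    have hzm : z ^ n = 1 := by
      rw [hnm, mul_comm, pow_mul, (Polynomial.mem_nthRootsFinset hm0 (1 : Ω)).1 hz, one_pow]
    obtain ⟨V₀, hxV, i₁, i₂, hVeq⟩ := X.left.presheaf.germ_eq (U := ⊤) (V := ⊤) x trivial trivial (gen y - φ z) 0 (hz0.trans (map_zero _).symm)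
    let V : X.left.Opens := V₀
    rw [map_zero] at hVeq
    refine ⟨V, hxV, ?_⟩
    obtain ⟨pt, hpt⟩ := exists_gen (X := Over.mk w) (n := n) (e.symm z) hn
      (by rw [← map_pow, hzm, map_one])
    let j : Over.mk (V.ι ≫ X.hom) ⟶ X := Over.homMk V.ι rfl
    have hyV : j ≫ y = (j ≫ r) ≫ pt := by
      refine gen_injective ?_
      rw [gen_comp, Category.assoc, gen_comp, gen_comp, hpt]
      show V.ι.appTop (gen y) = V.ι.appTop (φ z)
      rw [← sub_eq_zero, ← map_sub, Scheme.Opens.ι_appTop]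
      have h := congrArg (X.left.presheaf.map (homOfLE (x := V.ι ''ᵁ ⊤) (by simp : V.ι ''ᵁ ⊤ ≤ V)).op) hVeq
      rw [map_zero, ← CommRingCat.comp_apply, ← Functor.map_comp] at h
      exact h
    have hj : j ≫ (lift (r ≫ a) y ≫ c) = j ≫ 1 := by
      rw [← Category.assoc, comp_lift, hyV, ← Category.assoc, ← comp_lift, Category.assoc,
        field_point hc hn w a pt, MonObj.comp_one, MonObj.comp_one]
    exact congrArg CommaMorphism.left hj
  have h := pow_gcd_eq_one.2 ⟨hvp, hvm⟩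
  rwa [hgcd, pow_one] at h

end field

/-- An alternating pairing of `μ_n` over a local base with values in a separated group is trivial. -/
theorem pairing_trivial {R : Type u} [CommRing R] [IsLocalRing R] (hn : 0 < n)
    {G : Over (Spec (CommRingCat.of R))} [GrpObj G] [IsSeparated G.hom] [LocallyOfFiniteType G.hom]
    (c : Red.DS (Spec (CommRingCat.of R)) (ZMod n) ⊗ Red.DS (Spec (CommRingCat.of R)) (ZMod n) ⟶ G)
    (hc : IsAlt c) : c = 1 := by
  haveI : NeZero n := ⟨hn.ne'⟩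
  let T := Red.DS (Spec (CommRingCat.of R)) (ZMod n)
  let π := T.hom
  haveI : AddGroup.FG (ZMod n) := inferInstance
  have hMT : SGA3x.IsMultTypeFT T := Cochar26.isMultTypeFT_DS _ _
  haveI : IsFinite (Red.diag (ULift.{u} ℤ) (ZMod n)).hom := by
    show IsFinite (Spec.map (CommRingCat.ofHom (algebraMap (ULift.{u} ℤ) (MonoidAlgebra (ULift.{u} ℤ) (Multiplicative (ZMod n))))))
    rw [IsFinite.SpecMap_iff, CommRingCat.hom_ofHom, RingHom.finite_algebraMap]
    exact Module.Finite.equiv (MonoidAlgebra.coeffLinearEquiv (ULift.{u} ℤ)).symm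
  haveI : IsFinite π := inferInstanceAs (IsFinite (pullback.snd _ _))
  let τ : ∀ X : Over T.left, (Over.map π).obj X ⟶ T := fun X => Over.homMk X.hom rfl
  let H := Red.bc π T
  let ε : (Over.map π).obj H ⟶ T := (BCPoints.pt π T H).symm (𝟙 _)
  let u : H ⟶ Red.bc π G := BCPoints.pt π G H (lift (τ H) ε ≫ c)
  have hu : ∀ (X : Over T.left) (a : (Over.map π).obj X ⟶ T),
      BCPoints.pt π T X a ≫ u = BCPoints.pt π G X (lift (τ X) a ≫ c) := by
    intro X a
    show _ ≫ BCPoints.pt π G H _ = _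
    rw [← BCPoints.pt_map_comp, ← Category.assoc, comp_lift]
    have h1 : (Over.map π).map (BCPoints.pt π T X a) ≫ ε = a := (BCPoints.pt π T X).injective (by
      rw [BCPoints.pt_map_comp, Equiv.apply_symm_apply, Category.comp_id])
    have h2 : (Over.map π).map (BCPoints.pt π T X a) ≫ τ H = τ X :=
      Over.OverMorphism.ext (Over.w (BCPoints.pt π T X a))
    rw [h1, h2]
  haveI : IsMonHom u := BCPoints.isMonHom_of_mul u fun X x y => by
    obtain ⟨a, rfl⟩ := (BCPoints.pt π T X).surjective x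
    obtain ⟨b, rfl⟩ := (BCPoints.pt π T X).surjective y
    rw [← BCPoints.pt_mul, hu, hu, hu, hc.mul_right, BCPoints.pt_mul]
  haveI : IsSeparated (Red.bc π G).hom := inferInstanceAs (IsSeparated (Limits.pullback.snd G.hom π))
  haveI : LocallyOfFiniteType (Red.bc π G).hom :=
    inferInstanceAs (LocallyOfFiniteType (Limits.pullback.snd G.hom π))
  obtain ⟨U, hUc, hU, hUt⟩ := TrivLocus.exists_clopen u (Or.inr inferInstance) (CentralDescent.isMultTypeFT_bc π T hMT)
  have huniv : (U : Set T.left) = Set.univ := by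
    by_contra hne
    obtain ⟨y, hy⟩ := (Set.ne_univ_iff_exists_notMem _).1 hne
    have hcl : IsClosed (π.base '' (U : Set T.left)ᶜ) := π.isClosedMap _ U.2.isClosed_compl
    have hm : IsLocalRing.closedPoint R ∈ π.base '' (U : Set T.left)ᶜ :=
      (IsLocalRing.specializes_closedPoint (π.base y)).mem_closed hcl ⟨y, hy, rfl⟩
    obtain ⟨s, hs, -⟩ := hm
    refine hs ?_
    let Ω := AlgebraicClosure (T.left.residueField s)
    let ω : Spec (CommRingCat.of Ω) ⟶ T.left := Red.geomPt s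
    have hω : ω.base (default : PrimeSpectrum Ω) = s := by
      show (T.left.fromSpecResidueField s).base _ = s
      exact Scheme.fromSpecResidueField_apply _ _
    rw [SetLike.mem_coe, hU, ← hω, ← TrivLocus.triv_field]
    intro X p a
    obtain ⟨a', rfl⟩ := (BCPoints.pt π T X).surjective a
    let r : (Over.map π).obj X ⟶ Over.mk (ω ≫ π) :=
      Over.homMk p.left (by
        show p.left ≫ ω ≫ π = X.hom ≫ π
        rw [← Category.assoc, show p.left ≫ ω = X.hom from Over.w p])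
    let a₀ : Over.mk (ω ≫ π) ⟶ T := Over.homMk ω rfl
    have hτ : τ X = r ≫ a₀ := Over.OverMorphism.ext (Over.w p).symm
    rw [hu, hτ, field_trivial hc hn (ω ≫ π) a₀ r a']
    exact map_one (MonoidHom.mk' (BCPoints.pt π G X) (BCPoints.pt_mul π))
  have hall : ∀ (X : Over T.left) (a : (Over.map π).obj X ⟶ T), lift (τ X) a ≫ c = 1 := by
    intro X a
    have hr : Set.range X.hom ⊆ Set.range U.ι := by rw [Scheme.Opens.range_ι, huniv]; exact Set.subset_univ _
    have h1 := hUt X (Over.homMk (IsOpenImmersion.lift U.ι X.hom hr) (IsOpenImmersion.lift_fac _ _ _))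
      (BCPoints.pt π T X a)
    rw [hu] at h1
    exact (BCPoints.pt π G X).injective (h1.trans (map_one (MonoidHom.mk' (BCPoints.pt π G X) (BCPoints.pt_mul π))).symm)
  let Y := T ⊗ T
  let X : Over T.left := Over.mk (fst T T).left
  let κ : Y ⟶ (Over.map π).obj X := Over.homMk (𝟙 _) ((Category.id_comp _).trans (Over.w (fst T T)))
  let κ' : (Over.map π).obj X ⟶ Y := Over.homMk (𝟙 _) ((Category.id_comp _).trans (Over.w (fst T T)).symm)
  have hκ : κ ≫ κ' = 𝟙 Y := Over.OverMorphism.ext (Category.id_comp _)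
  have h1 := κ ≫= hall X (κ' ≫ snd T T)
  rw [MonObj.comp_one, ← Category.assoc, comp_lift, reassoc_of% hκ,
    show κ ≫ τ X = fst T T from Over.OverMorphism.ext (Category.id_comp _), lift_fst_snd, Category.id_comp] at h1
  exact h1

end Groth.Agent.MuExt
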